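import Groth.Agent.CurveCoh.TwoCover
import Groth.Agent.ProperFin.Supp
import Groth.Agent.S0002
import Mathlib.RingTheory.DiscreteValuationRing.Basic
import Mathlib.RingTheory.Filtration

/-!
# Connectedness of the closed fibre

For `f : P ⟶ Spec R` proper over a discrete valuation ring with `R → Γ(P, O)` surjective the closed
fibre is preconnected: the obstruction `t⁻ⁿ ∈ Γ(P[1/t], O)` to lifting an idempotent of the closed
fibre is divisible by all powers of `t` in the finite module `H¹(P, O)`, hence vanishes.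
-/

set_option autoImplicit false
universe u

open CategoryTheory AlgebraicGeometry TopologicalSpace
open Groth.Agent.CohAff Groth.Agent.CurveCoh

namespace Groth.Agent.ConnFibre

theorem exists_cd_eq_of_toH_one {X : TopCat.{u}} {ι : Type u} {U : ι → Opens X}
    (hU : ⨆ i, U i = ⊤) {F : AbSh X} {c : Cochain F.obj U 1}
    (hc : cd F.obj U 1 c = 0) (h : toH hU 1 F c hc = 0) :
    ∃ t, cd F.obj U 0 t = c := by
  obtain ⟨b, hb⟩ := exists_bound F hc
  rw [toH_succ_eq hU F hc hb] at h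
  obtain ⟨w, hw⟩ := exists_map_eq_of_gdδ_eq_zero F h
  obtain ⟨s, hs⟩ := exists_aug_eq (qt F) hU (cd_quot_eq_zero F hb)
  rw [toH_zero_eq hU (qt F) _ hs] at hw
  have hw' : (gπ F).hom.app (Opposite.op ⊤) (Sheaf.H.equiv₀ (gd F) Limits.isTerminalTop w) = s := by
    rw [Sheaf.H.equiv₀_naturality]
    exact (congrArg _ hw).trans (AddEquiv.apply_symm_apply _ _)
  have hd : cmap (gπ F).hom U 0
      (b - aug (gd F).obj U (Sheaf.H.equiv₀ (gd F) Limits.isTerminalTop w)) = 0 := by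
    refine (map_sub _ _ _).trans (sub_eq_zero.2 ?_)
    refine hs.symm.trans ((congrArg (aug (qt F).obj U) hw'.symm).trans ?_)
    exact (cmap_aug (gπ F).hom _).symm
  obtain ⟨a, ha⟩ := exists_cmap_f (gdSeq_shortExact F) hd
  refine ⟨a, cmap_f_injective (gdSeq_shortExact F) U 1 ?_⟩
  refine (cd_cmap (η F).hom U 0 a).symm.trans ?_
  refine (congrArg (cd (gd F).obj U 0) ha).trans ?_
  exact (map_sub _ _ _).trans ((congrArg (_ - ·) (cd_aug _ _)).trans ((sub_zero _).trans hb))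

/-- a section on the overlap dying in `H¹` is a difference -/
theorem exists_eq_sub {X : Scheme.{u}} (M : X.Modules) {A B : X.Opens}
    (hU : ⨆ i, twoCover A B i = ⊤) {n : Γ(M, A ⊓ B)} (h : toH1 M hU n = 0) :
    ∃ (a : Γ(M, A)) (b : Γ(M, B)), n = mres M inf_le_right b - mres M inf_le_left a := by
  obtain ⟨t₀, ht₀⟩ := exists_cd_eq_of_toH_one (X := X.toPresheafedSpace.carrier) hU
    (F := Coh.toAb M) (cd_cocycleOf M n) h
  obtain ⟨t, ht⟩ : ∃ t : CohAff.Cochain (X := X.toPresheafedSpace.carrier) M.presheaf (twoCover A B) 0,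
      cd (X := X.toPresheafedSpace.carrier) M.presheaf (twoCover A B) 0 t = cocycleOf M n := ⟨t₀, ht₀⟩
  refine ⟨mres M (CohAff.le_inter (U := twoCover A B) fun a => ?_) (t ![⟨0⟩]),
    mres M (CohAff.le_inter (U := twoCover A B) fun a => ?_) (t ![⟨1⟩]), ?_⟩
  · fin_cases a; exact le_rfl
  · fin_cases a; exact le_rfl
  have h1 : eval01 M (cd (X := X.toPresheafedSpace.carrier) M.presheaf (twoCover A B) 0 t) = n :=
    (congrArg (eval01 M) ht).trans (eval01_cocycleOf M n)
  rw [← h1, eval01, CohAff.cd_zero_apply (X := X.toPresheafedSpace.carrier)]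
  have e0 : (![(⟨0⟩ : Two.{u}), ⟨1⟩] ∘ (1 : Fin 2).succAbove) = ![⟨0⟩] := by
    funext a; fin_cases a; rfl
  have e1 : (![(⟨0⟩ : Two.{u}), ⟨1⟩] ∘ (0 : Fin 2).succAbove) = ![⟨1⟩] := by
    funext a; fin_cases a; rfl
  have hcongr : ∀ (y z : Fin 1 → Two.{u}) (h : y = z) (V : X.Opens)
      (hy : V ≤ CohAff.inter (twoCover A B) y),
      mres M hy (t y) = mres M (h ▸ hy) (t z) := by rintro y z rfl V hy; rfl
  simp only [mres, map_sub, CohAff.res_res]
  exact congrArg₂ (· - ·) (hcongr _ _ e1 _ _) (hcongr _ _ e0 _ _)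

theorem isUnit_germ_iff {R : Type u} [CommRing R] {P : Scheme.{u}} (f : P ⟶ Spec (CommRingCat.of R))
    (t : R) (x : P) :
    IsUnit (P.presheaf.germ ⊤ x trivial (Coh.toGlobal f t)) ↔
      t ∉ (f.base x : PrimeSpectrum R).asIdeal := by
  refine (P.toRingedSpace.mem_top_basicOpen (Coh.toGlobal f t) x).symm.trans ?_
  change x ∈ P.basicOpen (f.appTop _) ↔ _
  rw [← Scheme.preimage_basicOpen_top, basicOpen_eq_of_affine']
  exact Iff.of_eq (congrArg (fun z => z ∉ (f.base x : PrimeSpectrum R).asIdeal)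
    (ConcreteCategory.congr_hom (Scheme.ΓSpecIso (CommRingCat.of R)).inv_hom_id t))

theorem isPreconnected_closedFibre {R : Type u} [CommRing R] [IsDomain R] [IsDiscreteValuationRing R]
    {P : Scheme.{u}} (f : P ⟶ Spec (CommRingCat.of R)) [IsProper f]
    (hglob : Function.Surjective (Coh.toGlobal f)) :
    _root_.IsPreconnected (f.base ⁻¹' {IsLocalRing.closedPoint R}) := by
  let F := f.base ⁻¹' {IsLocalRing.closedPoint R}
  have hFc : IsClosed F :=
    (IsLocalRing.isClosed_singleton_closedPoint R).preimage f.base.hom.continuous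
  rw [isPreconnected_iff_subset_of_fully_disjoint_closed hFc]
  intro u v hu hv huv hdis
  by_contra hnot
  push_neg at hnot
  obtain ⟨x, hxF, hxu⟩ : ∃ x ∈ F, x ∈ u := by
    obtain ⟨x, hx, hxv⟩ := Set.not_subset.1 hnot.2
    exact ⟨x, hx, (huv hx).resolve_right hxv⟩
  obtain ⟨y, hyF, hyv⟩ : ∃ y ∈ F, y ∈ v := by
    obtain ⟨y, hy, hyu⟩ := Set.not_subset.1 hnot.1
    exact ⟨y, hy, (huv hy).resolve_left hyu⟩
  let VA : P.Opens := ⟨(F ∩ v)ᶜ, (hFc.inter hv).isOpen_compl⟩
  let VB : P.Opens := ⟨(F ∩ u)ᶜ, (hFc.inter hu).isOpen_compl⟩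
  have hxA : x ∈ VA := fun h => Set.disjoint_left.1 hdis hxu h.2
  have hyB : y ∈ VB := fun h => Set.disjoint_left.1 hdis h.2 hyv
  have hcov : ⨆ i, twoCover VA VB i = ⊤ := by
    refine eq_top_iff.2 fun z _ => Opens.mem_iSup.2 ?_
    by_cases hz : z ∈ F ∩ v
    · exact ⟨⟨1⟩, fun h => Set.disjoint_left.1 hdis h.2 hz.2⟩
    · exact ⟨⟨0⟩, hz⟩
  obtain ⟨t, ht⟩ := IsDiscreteValuationRing.exists_irreducible R
  have htm : t ∈ IsLocalRing.maximalIdeal R := ht.not_isUnit
  have hdisF : ∀ z ∈ VA ⊓ VB, z ∉ F := fun z hz hzF =>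
    (huv hzF).elim (fun h => hz.2 ⟨hzF, h⟩) (fun h => hz.1 ⟨hzF, h⟩)
  let τ : Γ(P, VA ⊓ VB) := rres P le_top (Coh.toGlobal f t)
  have hτ : IsUnit τ := by
    refine P.toRingedSpace.isUnit_of_isUnit_germ (VA ⊓ VB) τ fun z hz => ?_
    have e : P.presheaf.germ (VA ⊓ VB) z hz τ = P.presheaf.germ ⊤ z trivial (Coh.toGlobal f t) :=
      P.presheaf.germ_res_apply (homOfLE le_top) z hz _
    refine e ▸ (isUnit_germ_iff f t z).2 fun h => hdisF z hz ?_
    have hne : (f.base z : PrimeSpectrum R).asIdeal ≠ ⊥ := fun h0 => ht.ne_zero (by rwa [h0] at h)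
    exact PrimeSpectrum.ext (IsLocalRing.eq_maximalIdeal
      ((f.base z : PrimeSpectrum R).isPrime.isMaximal hne))
  obtain ⟨w, hw⟩ := hτ.exists_right_inv
  let M := Coh.structureModule P
  letI : P.Over (Spec (CommRingCat.of R)) := ⟨f⟩
  haveI : IsProper (P ↘ Spec (CommRingCat.of R)) := ‹IsProper f›
  haveI : Module.Finite R (Coh.HH P M 1) :=
    S0002.result R P M (ProperFin.isCoh_structureModule P) 1
  let δ : ℕ → Coh.HH P M 1 := fun m => toH1 M hcov (w ^ m : Γ(P, VA ⊓ VB))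
  have hδ : ∀ m, t • δ (m + 1) = δ m := fun m => by
    show Coh.toGlobal f t • toH1 M hcov (w ^ (m + 1) : Γ(P, VA ⊓ VB)) = _
    refine (toH1_smulAb M hcov (Coh.toGlobal f t) _).symm.trans (congrArg (toH1 M hcov) ?_)
    show τ * w ^ (m + 1) = w ^ m
    rw [pow_succ', ← mul_assoc, hw, one_mul]
  have hδ1 : δ 1 = 0 := by
    have hk : ∀ m, δ 1 ∈ IsLocalRing.maximalIdeal R ^ m • (⊤ : Submodule R (Coh.HH P M 1)) := fun m => by
      have : ∀ m, t ^ m • δ (m + 1) = δ 1 := fun m => by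
        induction m with
        | zero => rw [pow_zero, one_smul]
        | succ m ih => rw [pow_succ, mul_smul, hδ, ih]
      rw [← this m]
      exact Submodule.smul_mem_smul (Ideal.pow_mem_pow htm m) Submodule.mem_top
    have := (Submodule.mem_iInf _).2 hk
    rwa [Ideal.iInf_pow_smul_eq_bot_of_isLocalRing _ (IsLocalRing.maximalIdeal.isMaximal R).ne_top,
      Submodule.mem_bot] at this
  obtain ⟨a, b, hab⟩ := exists_eq_sub M hcov hδ1
  let a' : Γ(P, VA) := a
  let b' : Γ(P, VB) := b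
  have hab' : w = rres P inf_le_right b' - rres P inf_le_left a' := (pow_one w).symm.trans hab
  let cA : Γ(P, VA) := rres P le_top (Coh.toGlobal f t) * a'
  let cB : Γ(P, VB) := rres P le_top (Coh.toGlobal f t) * b' - 1
  have hcomp : rres P (inf_le_left : VA ⊓ VB ≤ VA) cA = rres P (inf_le_right : VA ⊓ VB ≤ VB) cB := by
    have h1 : τ * w = τ * rres P inf_le_right b' - τ * rres P inf_le_left a' := by
      rw [← mul_sub, ← hab']
    rw [hw] at h1
    have hτ' : ∀ (V : P.Opens) (h : VA ⊓ VB ≤ V), rres P h (rres P le_top (Coh.toGlobal f t)) = τ :=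
      fun V h => CohAff.rres_rres _ _ _
    simp only [cA, cB, map_mul, map_sub, map_one]
    erw [hτ', hτ']
    linear_combination h1
  obtain ⟨c, hcA, hcB⟩ : ∃ c : Γ(P, ⊤), rres P (le_top : VA ≤ ⊤) c = cA ∧ rres P (le_top : VB ≤ ⊤) c = cB := by
    let s : ∀ i, Γ(P, twoCover VA VB i) := fun i => match i with
      | ⟨0⟩ => cA
      | ⟨1⟩ => cB
    obtain ⟨c, hc, -⟩ := P.sheaf.existsUnique_gluing' (twoCover VA VB) ⊤ (fun i => homOfLE le_top)
      hcov.ge s (by
        intro i j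
        match i, j with
        | ⟨0⟩, ⟨0⟩ => rfl
        | ⟨1⟩, ⟨1⟩ => rfl
        | ⟨0⟩, ⟨1⟩ => exact hcomp
        | ⟨1⟩, ⟨0⟩ =>
          have := congrArg (rres P (le_inf inf_le_right inf_le_left : VB ⊓ VA ≤ VA ⊓ VB)) hcomp
          simp only [CohAff.rres_rres] at this
          exact this.symm)
    exact ⟨c, hc ⟨0⟩, hc ⟨1⟩⟩
  obtain ⟨r, rfl⟩ := hglob c
  -- at `x` the function `r` vanishes, at `y` it is a unit
  have hgx : ∀ (s : R) (z : P), f.base z = IsLocalRing.closedPoint R →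
      (IsUnit (P.presheaf.germ ⊤ z trivial (Coh.toGlobal f s)) ↔ s ∉ IsLocalRing.maximalIdeal R) :=
    fun s z hz => by rw [isUnit_germ_iff, hz]; rfl
  have hres : ∀ (V : P.Opens) (z : P) (hz : z ∈ V) (s : Γ(P, ⊤)),
      P.presheaf.germ ⊤ z trivial s = P.presheaf.germ V z hz (rres P le_top s) :=
    fun V z hz s => (P.presheaf.germ_res_apply (homOfLE (le_top : V ≤ ⊤)) z hz s).symm
  have hr : r ∈ IsLocalRing.maximalIdeal R := by
    by_contra hr
    have h1 := (hgx r x hxF).2 hr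
    replace h1 : IsUnit (P.presheaf.germ VA x hxA cA) :=
      (congrArg IsUnit ((hres VA x hxA _).trans (congrArg _ hcA))).mp h1
    simp only [cA, map_mul, IsUnit.mul_iff] at h1
    refine (hgx t x hxF).1 ?_ htm
    exact (congrArg IsUnit (hres VA x hxA _)).mpr h1.1
  have h1 : ¬ IsUnit (P.presheaf.germ ⊤ y trivial (Coh.toGlobal f r)) := fun h => (hgx r y hyF).1 h hr
  apply h1
  refine (congrArg IsUnit ((hres VB y hyB _).trans (congrArg _ hcB))).mpr ?_
  simp only [cB, map_mul, map_sub, map_one]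
  rw [← IsUnit.neg_iff, neg_sub]
  refine IsLocalRing.isUnit_one_sub_self_of_mem_nonunits _ fun h => (hgx t y hyF).1 ?_ htm
  exact (congrArg IsUnit (hres VB y hyB _)).mpr (IsUnit.mul_iff.1 h).1

end Groth.Agent.ConnFibre
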