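import Groth.Agent.ConnFibre.Basic
import Groth.Agent.Chow.Main
import Groth.Agent.ProjProper.Basic
import Groth.Agent.Hens.CoupleProper
import Groth.Agent.FlatMor.SchDom
import Groth.Agent.S11107
import Groth.Agent.RegLoc.Basic

/-!
# Properness from the closed fibre

A smooth separated scheme of finite type over a discrete valuation ring with proper geometrically
integral generic fibre and non-empty proper closed fibre is proper.
-/

set_option autoImplicit false
set_option linter.style.haveILetI false
universe u

open CategoryTheory CategoryTheory.Limits AlgebraicGeometry TensorProduct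

namespace Groth.Agent.ConnFibre

/-- an element of `A` integral over `R` is a scalar as soon as `A ⊗_R K̄` is a domain -/
theorem eq_algebraMap_of_isIntegral {R : Type u} [CommRing R] [IsDomain R] [IsIntegrallyClosed R]
    (K : Type u) [Field K] [Algebra R K] [IsFractionRing R K]
    (A : Type u) [CommRing A] [Algebra R A] [Module.Flat R A] [Nontrivial A]
    [IsDomain (A ⊗[R] AlgebraicClosure K)] {a : A} (ha : IsIntegral R a) :
    ∃ r : R, algebraMap R A r = a := by
  let L := AlgebraicClosure K
  have hinj : Function.Injective (algebraMap R L) := by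
    rw [IsScalarTower.algebraMap_eq R K L]
    exact (algebraMap K L).injective.comp (IsFractionRing.injective R K)
  let ι : A →ₐ[R] A ⊗[R] L := Algebra.TensorProduct.includeLeft
  have hι : Function.Injective ι := Algebra.TensorProduct.includeLeft_injective hinj
  obtain ⟨p, hp, hpa⟩ := ha
  let j : L →ₐ[R] A ⊗[R] L := Algebra.TensorProduct.includeRight
  let q : Polynomial L := p.map (algebraMap R L)
  have hq : q = (q.roots.map fun α => Polynomial.X - Polynomial.C α).prod :=
    (IsAlgClosed.splits q).eq_prod_roots_of_monic (hp.map _)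
  have hroot : Polynomial.eval₂ j.toRingHom (ι a) q = 0 := by
    rw [Polynomial.eval₂_map]
    rw [show j.toRingHom.comp (algebraMap R L) = (ι.toRingHom).comp (algebraMap R A) from
      j.comp_algebraMap.trans ι.comp_algebraMap.symm, show ι a = ι.toRingHom a from rfl,
      ← Polynomial.hom_eval₂, hpa, map_zero]
  rw [hq, Polynomial.eval₂_multiset_prod, Multiset.map_map, Multiset.prod_eq_zero_iff] at hroot
  obtain ⟨α, hα, hα'⟩ := Multiset.mem_map.1 hroot
  have hα0 : ι a = j α := by
    rwa [Function.comp_apply, Polynomial.eval₂_sub, Polynomial.eval₂_X, Polynomial.eval₂_C,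
      sub_eq_zero] at hα'
  have hαint : IsIntegral R α :=
    ⟨p, hp, (Polynomial.eval₂_eq_eval_map _).trans (Polynomial.isRoot_of_mem_roots hα)⟩
  -- `α` lies in `K`
  obtain ⟨x, hx⟩ : α ∈ (Algebra.linearMap K L).range := by
    by_contra hnot
    obtain ⟨φ, hφα, hφ⟩ := Submodule.exists_dual_map_eq_bot_of_notMem hnot inferInstance
    have h1 : φ 1 = 0 := (Submodule.mem_bot K).1 (hφ ▸ Submodule.mem_map_of_mem ⟨1, (algebraMap K L).map_one⟩)
    have h2 := congrArg ((φ.restrictScalars R).lTensor A) hα0
    change a ⊗ₜ[R] φ 1 = (1 : A) ⊗ₜ[R] φ α at h2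
    rw [h1, TensorProduct.tmul_zero] at h2
    have h3 : (0 : A ⊗[R] K) = 1 := by
      have := congrArg (· * ((1 : A) ⊗ₜ[R] (φ α)⁻¹)) h2
      simpa [Algebra.TensorProduct.one_def, mul_inv_cancel₀ hφα] using this
    refine zero_ne_one (α := A) (Algebra.TensorProduct.includeLeft_injective (S := R) (B := K)
      (IsFractionRing.injective R K) ?_)
    rw [map_zero, map_one]
    exact h3
  obtain ⟨r, hr⟩ : ∃ r : R, algebraMap R K r = x :=
    IsIntegrallyClosed.isIntegral_iff.1 ((isIntegral_algHom_iff (IsScalarTower.toAlgHom R K L)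
      (algebraMap K L).injective).1 (by rwa [show IsScalarTower.toAlgHom R K L x = α from hx]))
  refine ⟨r, hι ?_⟩
  rw [AlgHom.commutes, hα0, ← hx, ← hr]
  show algebraMap R (A ⊗[R] L) r = j (algebraMap K L (algebraMap R K r))
  rw [← IsScalarTower.algebraMap_apply, AlgHom.commutes]

variable {R : Type u} [CommRing R] [IsDomain R] [IsDiscreteValuationRing R]
  (K : Type u) [Field K] [Algebra R K] [IsFractionRing R K]

/-- a flat scheme with irreducible generic fibre and regular local rings is integral -/
theorem isIntegral_of_smooth {N : Scheme.{u}} (f : N ⟶ Spec (CommRingCat.of R)) [Smooth f]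
    [IrreducibleSpace ↥(pullback f (Spec.map (CommRingCat.ofHom (algebraMap R K))))] :
    IsIntegral N := by
  let η := Spec.map (CommRingCat.ofHom (algebraMap R K))
  haveI : IsReduced N := by
    haveI : ∀ x : N, _root_.IsReduced (N.presheaf.stalk x) := fun x => by
      haveI := S11107.isRegularLocalRing_stalk f x
      haveI := RegLoc.isDomain (N.presheaf.stalk x)
      infer_instance
    exact isReduced_of_isReduced_stalk N
  haveI : IsDominant η := by
    rw [isDominant_iff]
    exact PrimeSpectrum.denseRange_comap_iff_ker_le_nilRadical _ |>.2 (by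
      rw [CommRingCat.hom_ofHom, (RingHom.injective_iff_ker_eq_bot _).1 (IsFractionRing.injective R K)]
      exact bot_le)
  haveI : IsSchemeTheoreticallyDominant η := .of_isDominant η
  have hd : DenseRange (pullback.fst f η).base := (pullback.fst f η).denseRange
  have : IrreducibleSpace N := by
    rw [irreducibleSpace_def, Set.top_eq_univ, ← hd.closure_eq, ← Set.image_univ]
    exact (((irreducibleSpace_def _).1 ‹_›).image _ (pullback.fst f η).continuous.continuousOn).closure
  exact isIntegral_of_irreducibleSpace_of_isReduced N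

/-- a section of an open subscheme integral over `R` is constant -/
theorem exists_eq_of_isIntegral_section {N : Scheme.{u}} (f : N ⟶ Spec (CommRingCat.of R)) [Flat f]
    [IsLocallyNoetherian N] [IsIntegral N] [GeometricallyIntegral (pullback.snd f (Spec.map (CommRingCat.ofHom (algebraMap R K))))]
    {W : Scheme.{u}} (i : W ⟶ N) [IsOpenImmersion i] [Nonempty W] (c : Γ(W, ⊤))
    (hc : ((Scheme.ΓSpecIso (CommRingCat.of R)).inv ≫ (i ≫ f).appTop).hom.IsIntegralElem c) :
    ∃ r : R, ((Scheme.ΓSpecIso (CommRingCat.of R)).inv ≫ (i ≫ f).appTop).hom r = c := by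
  haveI : IsIntegral W := isIntegral_of_isOpenImmersion i
  obtain ⟨V, hV, hwV, -⟩ := exists_isAffineOpen_mem_and_subset
    (x := Classical.arbitrary W) (U := (⊤ : W.Opens)) trivial
  haveI : IsAffine V.toScheme := hV
  haveI : Nonempty V.toScheme := ⟨⟨_, hwV⟩⟩
  let g := V.ι ≫ i ≫ f
  let A := Γ(V.toScheme, ⊤)
  letI : Algebra R A := ((Scheme.ΓSpecIso (CommRingCat.of R)).inv ≫ g.appTop).hom.toAlgebra
  haveI : Module.Flat R A := by
    have h1 : (g.appLE ⊤ ⊤ le_top).hom.Flat :=
      g.flat_appLE (isAffineOpen_top _) (isAffineOpen_top _) le_top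
    have h2 : ((Scheme.ΓSpecIso (CommRingCat.of R)).inv ≫ g.appTop).hom.Flat := by
      rw [CommRingCat.hom_comp]
      refine RingHom.Flat.comp ?_ ?_
      · exact RingHom.Flat.of_bijective (ConcreteCategory.bijective_of_isIso
          (Scheme.ΓSpecIso (CommRingCat.of R)).inv)
      · simpa [Scheme.Hom.appTop, Scheme.Hom.app_eq_appLE] using h1
    exact h2
  haveI : Nontrivial A := inferInstance
  let L := AlgebraicClosure K
  let ψ := Spec.map (CommRingCat.ofHom (algebraMap R L))
  let η := Spec.map (CommRingCat.ofHom (algebraMap R K))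
  have hg : Spec.map (CommRingCat.ofHom (algebraMap R A)) = V.toScheme.isoSpec.inv ≫ g := by
    rw [Iso.eq_inv_comp]
    refine ext_of_isAffine ?_
    rw [Scheme.Hom.comp_appTop, Scheme.isoSpec_hom, Scheme.toSpecΓ_appTop,
      Scheme.ΓSpecIso_naturality]
    ext x
    show g.appTop ((Scheme.ΓSpecIso _).inv ((Scheme.ΓSpecIso _).hom x)) = _
    rw [Iso.hom_inv_id_apply]
  -- the base change to `K̄` is integral
  haveI : IsIntegral (pullback f ψ) := by
    let β := Spec.map (CommRingCat.ofHom (algebraMap K L))
    have hψ : β ≫ η = ψ := by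
      rw [← Spec.map_comp, ← CommRingCat.ofHom_comp, ← IsScalarTower.algebraMap_eq]
    haveI : IsIntegral (pullback (pullback.snd f η) β) :=
      GeometricallyIntegral.geometrically_isIntegral _ _ _ (.of_hasPullback _ _)
    exact IsIntegral.of_isIso ((pullbackLeftPullbackSndIso f η β).hom ≫
      (pullback.congrHom rfl hψ).hom)
  haveI : Nontrivial (A ⊗[R] L) := (Algebra.TensorProduct.includeLeft_injective (S := R) (A := A) (B := L)
    (by rw [IsScalarTower.algebraMap_eq R K L]
        exact (algebraMap K L).injective.comp (IsFractionRing.injective R K))).nontrivial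
  haveI : IsDomain (A ⊗[R] L) := by
    let m : Spec (CommRingCat.of (A ⊗[R] L)) ⟶ pullback f ψ :=
      (pullbackSpecIso R A L).inv ≫ pullback.map _ _ f ψ (V.toScheme.isoSpec.inv ≫ V.ι ≫ i)
        (𝟙 _) (𝟙 _) (by rw [Category.comp_id, hg]; simp [g]) (by simp [ψ])
    haveI : IsOpenImmersion m := by infer_instance
    haveI : IsIntegral (Spec (CommRingCat.of (A ⊗[R] L))) := isIntegral_of_isOpenImmersion m
    exact (affine_isIntegral_iff (CommRingCat.of (A ⊗[R] L))).1 ‹_›
  obtain ⟨p, hp, hpc⟩ := hc
  have hres : (V.ι.appTop).hom.comp ((Scheme.ΓSpecIso (CommRingCat.of R)).inv ≫ (i ≫ f).appTop).hom =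
      algebraMap R A := rfl
  obtain ⟨r, hr⟩ := eq_algebraMap_of_isIntegral (R := R) K A (a := V.ι.appTop c)
    ⟨p, hp, by rw [← hres, ← Polynomial.hom_eval₂, hpc, map_zero]⟩
  refine ⟨r, ?_⟩
  haveI : IsDominant V.ι := by
    rw [isDominant_iff, DenseRange, Scheme.Opens.range_ι]
    exact V.isOpen.dense ⟨_, hwV⟩
  haveI : IsSchemeTheoreticallyDominant V.ι := .of_isDominant _
  haveI : IsLocallyNoetherian W := isLocallyNoetherian_of_isOpenImmersion i
  haveI : QuasiCompact V.ι := inferInstance
  exact V.ι.app_injective ⊤ ((DFunLike.congr_fun hres r).trans hr)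

/-- properness of a smooth model with proper fibres -/
theorem isProper_of_closedFibre {N : Scheme.{u}} (f : N ⟶ Spec (CommRingCat.of R)) [Smooth f]
    [IsSeparated f] [QuasiCompact f]
    [GeometricallyIntegral (pullback.snd f (Spec.map (CommRingCat.ofHom (algebraMap R K))))]
    [IsProper (pullback.snd f (Spec.map (CommRingCat.ofHom (IsLocalRing.residue R))))]
    (hne : ∃ x : N, f.base x = IsLocalRing.closedPoint R) : IsProper f := by
  classical
  haveI : IrreducibleSpace ↥(pullback f (Spec.map (CommRingCat.ofHom (algebraMap R K)))) :=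
    haveI := GeometricallyIntegral.isIntegral_of_subsingleton
      (pullback.snd f (Spec.map (CommRingCat.ofHom (algebraMap R K))))
    inferInstance
  haveI : IsIntegral N := isIntegral_of_smooth K f
  haveI : IsLocallyNoetherian N := LocallyOfFiniteType.isLocallyNoetherian f
  obtain ⟨n, X', π, j, hj, hjπ, hπ, hπs, U, hU, hUiso⟩ := Chow.chow f
  haveI := ProjProper.Basic.isProper_toBase n (Spec (CommRingCat.of R))
  let b := CohB1.ProjSpaceOver.toBase n (Spec (CommRingCat.of R))
  haveI : IsLocallyNoetherian X' := LocallyOfFiniteType.isLocallyNoetherian π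
  haveI : IsNoetherian X' :=
    haveI : CompactSpace X' := QuasiCompact.compactSpace_of_compactSpace (π ≫ f)
    {}
  haveI : Nonempty U.toScheme := by
    obtain ⟨x, hx⟩ := hU.nonempty
    exact ⟨⟨x, hx⟩⟩
  haveI : IsIntegral U.toScheme := isIntegral_of_isOpenImmersion U.ι
  let e : U.toScheme ⟶ X' := inv (π ∣_ U) ≫ (π ⁻¹ᵁ U).ι
  have he : e ≫ π = U.ι := by
    rw [Category.assoc, ← morphismRestrict_ι, IsIso.inv_hom_id_assoc]
  let f₀ := e ≫ j
  haveI : IsImmersion f₀ := inferInstance
  haveI : IsLocallyNoetherian U.toScheme := isLocallyNoetherian_of_isOpenImmersion U.ι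
  haveI : IsNoetherian U.toScheme :=
    haveI : CompactSpace U.toScheme := by
      haveI : CompactSpace N := QuasiCompact.compactSpace_of_compactSpace f
      haveI : IsNoetherian N := {}
      exact isCompact_iff_compactSpace.1 (TopologicalSpace.NoetherianSpace.isCompact (U : Set N))
    {}
  haveI : QuasiCompact f₀ := by
    haveI : QuasiCompact e := inferInstance
    haveI : QuasiCompact j := inferInstance
    infer_instance
  let P := f₀.image
  haveI : IsSchemeTheoreticallyDominant f₀.toImage := FlatMor.SchDom.toImage_dominant f₀ (Or.inl ‹_›)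
  haveI : IsReduced P := IsSchemeTheoreticallyDominant.isReduced f₀.toImage
  have hd : DenseRange f₀.toImage.base := f₀.toImage.denseRange
  haveI : Nonempty P := ⟨f₀.toImage.base (Classical.arbitrary _)⟩
  let p := f₀.imageι ≫ b
  haveI : IsProper p := inferInstance
  have hp : f₀.toImage ≫ p = U.ι ≫ f := by
    rw [show f₀.toImage ≫ p = (f₀.toImage ≫ f₀.imageι) ≫ b from (Category.assoc ..).symm,
      f₀.toImage_imageι, Category.assoc, hjπ, reassoc_of% he]
  -- every global function is constant
  have hglob : Function.Surjective (Coh.toGlobal p) := fun c => by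
    have hfin := Hens.CoupleProper.finite_toGlobal p
    have hcomp : ((Scheme.ΓSpecIso (CommRingCat.of R)).inv ≫ (U.ι ≫ f).appTop).hom =
        f₀.toImage.appTop.hom.comp (Coh.toGlobal p) := by
      rw [← hp]; rfl
    obtain ⟨q, hq, hqc⟩ := hfin.to_isIntegral c
    obtain ⟨r, hr⟩ := exists_eq_of_isIntegral_section K f U.ι (f₀.toImage.appTop c) ⟨q, hq, by
      rw [hcomp]
      exact (Polynomial.hom_eval₂ ..).symm.trans ((congrArg _ hqc).trans (map_zero _))⟩
    refine ⟨r, f₀.toImage.app_injective ⊤ ?_⟩
    rw [hcomp] at hr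
    exact hr
  have hconn := isPreconnected_closedFibre p hglob
  -- the part of `X'` over `P`
  let π' : pullback j f₀.imageι ⟶ N := pullback.fst j f₀.imageι ≫ π
  let j' : pullback j f₀.imageι ⟶ P := pullback.snd j f₀.imageι
  haveI : IsProper π' := inferInstance
  haveI : IsImmersion j' := inferInstance
  have hj'π : j' ≫ p = π' ≫ f := by
    rw [← Category.assoc, ← pullback.condition, Category.assoc, hjπ, ← Category.assoc]
  let l : U.toScheme ⟶ pullback j f₀.imageι := pullback.lift e f₀.toImage (f₀.toImage_imageι).symm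
  haveI : Surjective π' := by
    refine ⟨Set.range_eq_univ.1 (Set.univ_subset_iff.1 (hU.closure_eq ▸
      closure_minimal ?_ π'.isClosedMap.isClosed_range))⟩
    intro x hx
    refine ⟨l.base ⟨x, hx⟩, ?_⟩
    have hl : l ≫ π' = U.ι := by rw [← Category.assoc, pullback.lift_fst, he]
    exact (Scheme.Hom.comp_apply l π' _).symm.trans (by rw [hl]; rfl)
  have hdense : Dense (Set.range j'.base) := by
    refine hd.mono ?_
    rintro _ ⟨x, rfl⟩
    exact ⟨l.base x, by rw [← Scheme.Hom.comp_apply, pullback.lift_snd]⟩
  have hopen : IsOpen (Set.range j'.base) := by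
    have := j'.isLocallyClosed_range.isOpen_coborder
    rwa [coborder, hdense.closure_eq, ← Set.compl_eq_univ_sdiff, compl_compl] at this
  let F := p.base ⁻¹' {IsLocalRing.closedPoint R}
  let r := Spec.map (CommRingCat.ofHom (IsLocalRing.residue R))
  have hr : Set.range r.base = {IsLocalRing.closedPoint R} := by
    haveI : Subsingleton (Spec (CommRingCat.of (IsLocalRing.ResidueField R))) := inferInstance
    refine Set.eq_singleton_iff_nonempty_unique_mem.2 ⟨Set.range_nonempty _, ?_⟩
    rintro _ ⟨x, rfl⟩
    rw [Subsingleton.elim x (IsLocalRing.closedPoint _)]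
    exact IsLocalRing.comap_closedPoint (IsLocalRing.residue R)
  have hclosed : IsClosed (j'.base '' (j'.base ⁻¹' F)) := by
    let q : pullback π' (pullback.fst f r) ⟶ P := pullback.fst _ _ ≫ j'
    haveI : IsClosedImmersion r :=
      IsClosedImmersion.spec_of_surjective _ Ideal.Quotient.mk_surjective
    haveI : IsProper (q ≫ p) := by
      rw [Category.assoc, hj'π, pullback.condition_assoc, pullback.condition]
      infer_instance
    haveI : IsProper q := IsProper.of_comp q p
    convert q.isClosedMap.isClosed_range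
    rw [show (q.base : _ → P) = j'.base ∘ (pullback.fst π' (pullback.fst f r)).base from rfl,
      Set.range_comp, Scheme.Pullback.range_fst, Scheme.Pullback.range_fst, hr]
    congr 1
    ext x
    show p.base (j'.base x) = IsLocalRing.closedPoint R ↔ f.base (π'.base x) = IsLocalRing.closedPoint R
    rw [← Scheme.Hom.comp_apply, hj'π]
    rfl
  have hFr : F ⊆ Set.range j'.base := by
    obtain ⟨x, hx⟩ := hne
    obtain ⟨y, rfl⟩ := π'.surjective x
    have hyF : j'.base y ∈ F := by
      show p.base (j'.base y) = _
      rw [← Scheme.Hom.comp_apply, hj'π]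
      exact hx
    have hsub := hconn (Set.range j'.base) (j'.base '' (j'.base ⁻¹' F))ᶜ hopen hclosed.isOpen_compl
      (fun z hz => or_iff_not_imp_right.2 fun h => Set.image_subset_range _ _ (not_not.1 h))
    by_contra hcon
    obtain ⟨z, hzF, hz⟩ := Set.not_subset.1 hcon
    obtain ⟨w, hwF, hw, hw'⟩ := hsub ⟨j'.base y, hyF, y, rfl⟩
      ⟨z, hzF, fun h => hz (Set.image_subset_range _ _ h)⟩
    obtain ⟨v, rfl⟩ := hw
    exact hw' ⟨v, hwF, rfl⟩
  haveI : IsClosedImmersion j' := by
    refine IsClosedImmersion.of_isPreimmersion j' ?_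
    suffices Set.range j'.base = Set.univ from this ▸ isClosed_univ
    by_contra hcon
    obtain ⟨z, hz⟩ := (Set.ne_univ_iff_exists_notMem _).1 hcon
    have hcl : IsClosed (p.base '' (Set.range j'.base)ᶜ) :=
      p.isClosedMap _ hopen.isClosed_compl
    obtain ⟨w, hw, hw'⟩ : IsLocalRing.closedPoint R ∈ p.base '' (Set.range j'.base)ᶜ :=
      (IsLocalRing.specializes_closedPoint (p.base z)).mem_closed hcl ⟨z, hz, rfl⟩
    exact hw (hFr hw')
  haveI : UniversallyClosed (π' ≫ f) := hj'π ▸ inferInstance
  haveI := UniversallyClosed.of_comp_surjective π' f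
  exact {}

end Groth.Agent.ConnFibre
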